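import Groth.Agent.GrBassZero.Socle
import Mathlib.RingTheory.GradedAlgebra.Homogeneous.Ideal
import Mathlib.RingTheory.GradedAlgebra.Homogeneous.Submodule
import Mathlib.Algebra.DirectSum.Module
import Mathlib.LinearAlgebra.Finsupp.LinearCombination

/-! The summands of a graded injective hull of a given type, counted by the zeroth Bass number. -/

set_option autoImplicit false
universe u

namespace Groth.Agent.GrBassZero

open IsLocalRing

variable {ι : Type} [AddCommGroup ι] [DecidableEq ι] {R : Type u} [CommRing R] {𝒜 : ι → AddSubgroup R} [GradedRing 𝒜]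
variable {E : Type u} [AddCommGroup E] [Module R E] {𝓔 : ι → AddSubgroup E} [DirectSum.Decomposition 𝓔] [SetLike.GradedSMul 𝒜 𝓔]

theorem smul_mem_graded {a b : ι} {r : R} {y : E} (hr : r ∈ 𝒜 a) (hy : y ∈ 𝓔 b) : r • y ∈ 𝓔 (a + b) :=
  SetLike.GradedSMul.smul_mem (A := 𝒜) (B := 𝓔) hr hy

variable (𝒜) in
include 𝒜 in
theorem isHomogeneous_span_singleton {g : ι} {y : E} (hy : y ∈ 𝓔 g) :
    (Submodule.span R {y}).IsHomogeneous 𝓔 := by
  classical
  intro i z hz
  obtain ⟨r, rfl⟩ := Submodule.mem_span_singleton.1 hz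
  rw [← DirectSum.sum_support_decompose 𝒜 r, Finset.sum_smul]
  rw [DirectSum.decompose_sum, DFinsupp.finset_sum_apply, AddSubmonoidClass.coe_finset_sum]
  refine sum_mem fun a _ => ?_
  have h : ((DirectSum.decompose 𝒜 r a : R)) • y ∈ 𝓔 (a + g) := smul_mem_graded (SetLike.coe_mem _) hy
  by_cases hi : a + g = i
  · subst hi
    rw [DirectSum.decompose_of_mem_same 𝓔 h]
    exact Submodule.smul_mem _ _ (Submodule.mem_span_singleton_self y)
  · rw [DirectSum.decompose_of_mem_ne 𝓔 h hi]
    exact zero_mem _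

theorem decompose_smul_of_mem {d : ι} {a : R} (ha : a ∈ 𝒜 d) (y : E) (i : ι) :
    ((DirectSum.decompose 𝓔 (a • y) (d + i) : 𝓔 (d + i)) : E) = a • (DirectSum.decompose 𝓔 y i : E) := by
  classical
  conv_lhs => rw [← DirectSum.sum_support_decompose 𝓔 y, Finset.smul_sum, DirectSum.decompose_sum,
    DFinsupp.finset_sum_apply, AddSubmonoidClass.coe_finset_sum]
  rw [Finset.sum_eq_single i]
  · exact DirectSum.decompose_of_mem_same 𝓔 (smul_mem_graded ha (SetLike.coe_mem _))
  · intro j _ hj
    exact DirectSum.decompose_of_mem_ne 𝓔 (smul_mem_graded ha (SetLike.coe_mem _))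
      (fun h => hj (add_left_cancel h))
  · intro h
    rw [DFinsupp.notMem_support_iff.1 h, ZeroMemClass.coe_zero, smul_zero]
    simp

theorem smul_decompose_eq_zero (p : HomogeneousIdeal 𝒜) {y : E} (hy : ∀ a ∈ p.toIdeal, a • y = 0) (i : ι) :
    ∀ a ∈ p.toIdeal, a • (DirectSum.decompose 𝓔 y i : E) = 0 := by
  classical
  intro a ha
  rw [← DirectSum.sum_support_decompose 𝒜 a, Finset.sum_smul]
  refine Finset.sum_eq_zero fun d _ => ?_
  rw [← decompose_smul_of_mem (SetLike.coe_mem _) y i, hy _ (p.isHomogeneous d ha)]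
  simp

variable {M : Type u} [AddCommGroup M] [Module R M]

theorem exists_smul_mem_range (p : HomogeneousIdeal 𝒜) [hp : p.toIdeal.IsPrime] (e : M →ₗ[R] E)
    (hess : ∀ P : Submodule R E, P.IsHomogeneous 𝓔 → P ≠ ⊥ → P ⊓ LinearMap.range e ≠ ⊥)
    {y : E} (hy : ∀ a ∈ p.toIdeal, a • y = 0) :
    ∃ u ∈ p.toIdeal.primeCompl, u • y ∈ LinearMap.range e := by
  classical
  rw [← DirectSum.sum_support_decompose 𝓔 y]
  have hone : ∀ i, ∃ u ∈ p.toIdeal.primeCompl, u • (DirectSum.decompose 𝓔 y i : E) ∈ LinearMap.range e := fun i => by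
    by_cases h0 : (DirectSum.decompose 𝓔 y i : E) = 0
    · exact ⟨1, one_mem _, by simp [h0]⟩
    obtain ⟨z, hz, hz0⟩ := Submodule.exists_mem_ne_zero_of_ne_bot
      (hess _ (isHomogeneous_span_singleton 𝒜 (SetLike.coe_mem (DirectSum.decompose 𝓔 y i)))
        (by simpa [Submodule.span_singleton_eq_bot] using h0))
    obtain ⟨r, rfl⟩ := Submodule.mem_span_singleton.1 hz.1
    exact ⟨r, fun hr => hz0 (smul_decompose_eq_zero p hy i r hr), hz.2⟩
  choose u hu hu' using hone
  refine ⟨∏ i ∈ (DirectSum.decompose 𝓔 y).support, u i, prod_mem fun i _ => hu i, ?_⟩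
  rw [Finset.smul_sum]
  refine sum_mem fun i hi => ?_
  obtain ⟨c, hc⟩ : u i ∣ ∏ j ∈ (DirectSum.decompose 𝓔 y).support, u j := Finset.dvd_prod_of_mem _ hi
  rw [hc, mul_comm, mul_smul]
  exact Submodule.smul_mem _ c (hu' i)

theorem bassNum_zero_eq_of_essential [IsNoetherianRing R] (p : HomogeneousIdeal 𝒜) [p.toIdeal.IsPrime]
    (e : M →ₗ[R] E) (he : Function.Injective e)
    (hess : ∀ P : Submodule R E, P.IsHomogeneous 𝓔 → P ≠ ⊥ → P ⊓ LinearMap.range e ≠ ⊥) :
    GrLC.bassNum p.toIdeal M 0 = Module.length (Localization.AtPrime p.toIdeal) (soc p.toIdeal E) := by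
  let S := p.toIdeal.primeCompl
  let φ := LocalizedModule.map S e
  have hφ : Function.Injective φ := LocalizedModule.map_injective S e he
  have hφk : ∀ m s, φ (LocalizedModule.mk m s) = LocalizedModule.mk (e m) s := fun m s =>
    IsLocalizedModule.map_LocalizedModules S e m s
  have himg : (soc p.toIdeal M).map φ = soc p.toIdeal E := by
    apply le_antisymm
    · rintro _ ⟨x, hx, rfl⟩
      refine (mem_soc_iff _ _).2 fun a ha => ?_
      have h := (mem_soc_iff _ _).1 hx a ha
      rw [← algebraMap_smul (Localization.AtPrime p.toIdeal) a x] at h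
      rw [← algebraMap_smul (Localization.AtPrime p.toIdeal) a (φ x), ← map_smul, h, map_zero]
    · intro x hx
      obtain ⟨y, s, hy, rfl⟩ := exists_rep_of_mem_soc _ hx
      obtain ⟨v, hv, m, hm⟩ := exists_smul_mem_range p e hess hy
      refine ⟨LocalizedModule.mk m (⟨v, hv⟩ * s), mk_mem_soc _ (fun a ha => he ?_) _, ?_⟩
      · rw [map_smul, hm, smul_comm, hy a ha, smul_zero, map_zero]
      · rw [hφk, hm]
        exact LocalizedModule.mk_cancel_common_left ⟨v, hv⟩ s y
  rw [bassNum_zero_eq_length_soc, (Submodule.equivMapOfInjective φ hφ _).length_eq, himg]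

variable {Λ : Type u} (P : Λ → HomogeneousIdeal 𝒜) (J : Λ → Submodule R E) (t : Λ → E)

/-- the coordinate vectors of the summands of type `p` -/
def tp (p : HomogeneousIdeal 𝒜) : {α : Λ // P α = p} → E := fun α => t α

theorem length_soc_hull [IsNoetherianRing R] (hJ : ∀ α, (J α).IsHomogeneous 𝓔) (hind : iSupIndep J)
    (htop : iSup J = ⊤) (htJ : ∀ α, t α ∈ J α) (hann : ∀ α (r : R), r • t α = 0 ↔ r ∈ (P α).toIdeal)
    (hP : ∀ α, (P α).toIdeal.IsPrime)
    (hmeet : ∀ α, ∀ Q : Submodule R E, Q.IsHomogeneous 𝓔 → Q ≤ J α → Q ≠ ⊥ → Q ⊓ Submodule.span R {t α} ≠ ⊥)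
    (p : HomogeneousIdeal 𝒜) [hp : p.toIdeal.IsPrime] :
    Module.length (Localization.AtPrime p.toIdeal) (soc p.toIdeal E) = ENat.card {α : Λ // P α = p} := by
  classical
  let I := {α : Λ // P α = p}
  let W := Submodule.span R (Set.range (tp P t p))
  let S := p.toIdeal.primeCompl
  -- homogeneous elements of one summand
  have hcore : ∀ α i (z : E), z ∈ 𝓔 i → z ∈ J α → (∀ a ∈ p.toIdeal, a • z = 0) → ∃ v ∈ S, v • z ∈ W := by
    intro α i z hzi hzJ hz
    by_cases h0 : z = 0
    · exact ⟨1, one_mem _, by simp [h0]⟩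
    have hmeet' : ∀ {i} {w : E}, w ∈ 𝓔 i → w ∈ J α → w ≠ 0 →
        ∃ r : R, r • w ∈ Submodule.span R {t α} ∧ r • w ≠ 0 := fun hwi hwJ hw => by
      obtain ⟨x, hx, hx0⟩ := Submodule.exists_mem_ne_zero_of_ne_bot
        (hmeet α _ (isHomogeneous_span_singleton 𝒜 hwi) ((Submodule.span_singleton_le_iff_mem _ _).2 hwJ)
          (by simpa [Submodule.span_singleton_eq_bot] using hw))
      obtain ⟨r, rfl⟩ := Submodule.mem_span_singleton.1 hx.1
      exact ⟨r, hx.2, hx0⟩
    obtain ⟨r, hr, hr0⟩ := hmeet' hzi hzJ h0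
    obtain ⟨c, hc⟩ := Submodule.mem_span_singleton.1 hr
    have hle : p.toIdeal ≤ (P α).toIdeal := fun a ha => by
      have h1 : a • r • z = 0 := by rw [smul_comm, hz a ha, smul_zero]
      rw [← hc, ← mul_smul] at h1
      refine ((hP α).mem_or_mem ((hann α _).1 h1)).resolve_right fun hcP => hr0 ?_
      rw [← hc]; exact (hann α c).2 hcP
    by_cases heq : P α = p
    · exact ⟨r, fun h => hr0 (hz r h), by
        rw [← hc]; exact Submodule.smul_mem _ _ (Submodule.subset_span ⟨⟨α, heq⟩, rfl⟩)⟩
    · have hnle : ¬ (P α).toIdeal ≤ p.toIdeal := fun h => heq (HomogeneousIdeal.toIdeal_injective (le_antisymm h hle))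
      obtain ⟨b, hbP, hbp⟩ := SetLike.not_le_iff_exists.1 hnle
      obtain ⟨d, hd⟩ : ∃ d, (DirectSum.decompose 𝒜 b d : R) ∉ p.toIdeal := by
        by_contra h
        push Not at h
        exact hbp (DirectSum.sum_support_decompose 𝒜 b ▸ sum_mem fun d _ => h d)
      let a : R := DirectSum.decompose 𝒜 b d
      have haP : a ∈ (P α).toIdeal := (P α).isHomogeneous d hbP
      have had : a ∈ 𝒜 d := SetLike.coe_mem _
      by_cases hn : ∃ n : ℕ, a ^ n • z = 0
      · obtain ⟨n, hn⟩ := hn
        exact ⟨a ^ n, fun h => hd (hp.mem_of_pow_mem n h), by rw [hn]; exact zero_mem _⟩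
      exfalso
      push Not at hn
      obtain ⟨n, hstab⟩ := monotone_stabilizes_iff_noetherian.2 (inferInstance : IsNoetherian R R)
        ⟨fun n => LinearMap.ker (LinearMap.toSpanSingleton R E (a ^ n • z)), fun m n hmn r hr => by
          simp only [LinearMap.mem_ker, LinearMap.toSpanSingleton_apply] at hr ⊢
          obtain ⟨k, rfl⟩ := Nat.exists_eq_add_of_le hmn
          rw [pow_add, mul_comm, mul_smul, smul_comm, hr, smul_zero]⟩
      have hwi : a ^ n • z ∈ 𝓔 (n • d + i) := smul_mem_graded (SetLike.pow_mem_graded n had) hzi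
      obtain ⟨r', hr', hr0'⟩ := hmeet' hwi (Submodule.smul_mem _ _ hzJ) (hn n)
      obtain ⟨c', hc'⟩ := Submodule.mem_span_singleton.1 hr'
      have h1 : a • r' • a ^ n • z = 0 := by
        rw [← hc', ← mul_smul, hann]; exact Ideal.mul_mem_right _ _ haP
      have h2 : r' ∈ LinearMap.ker (LinearMap.toSpanSingleton R E (a ^ (n + 1) • z)) := by
        rw [LinearMap.mem_ker, LinearMap.toSpanSingleton_apply, pow_succ', mul_smul, smul_comm, h1]
      have h3 : r' ∈ LinearMap.ker (LinearMap.toSpanSingleton R E (a ^ n • z)) := by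
        have := hstab (n + 1) n.le_succ
        exact (SetLike.ext_iff.1 this r').2 h2
      exact hr0' h3
  have hint : DirectSum.IsInternal J := DirectSum.isInternal_submodule_of_iSupIndep_of_iSup_eq_top hind htop
  let Φ := (LinearEquiv.ofBijective (DirectSum.coeLinearMap J) hint).symm
  have hspan : ∀ y : E, (∀ a ∈ p.toIdeal, a • y = 0) → ∃ v ∈ S, v • y ∈ W := by
    intro y hy
    let good : Submodule R E :=
      { carrier := {y | ∃ v ∈ S, v • y ∈ W}
        zero_mem' := ⟨1, one_mem _, by simp⟩
        add_mem' := fun {x z} hx hz => by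
          obtain ⟨v, hv, hvx⟩ := hx
          obtain ⟨w, hw, hwz⟩ := hz
          refine ⟨v * w, mul_mem hv hw, ?_⟩
          rw [smul_add]
          exact add_mem (by rw [mul_comm, mul_smul]; exact W.smul_mem w hvx)
            (by rw [mul_smul]; exact W.smul_mem v hwz)
        smul_mem' := fun r x hx => by
          obtain ⟨v, hv, hvx⟩ := hx
          exact ⟨v, hv, by rw [smul_comm]; exact W.smul_mem r hvx⟩ }
    show y ∈ good
    have hy' : ∀ α, ∀ a ∈ p.toIdeal, a • ((Φ y α : J α) : E) = 0 := fun α a ha => by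
      rw [← Submodule.coe_smul, ← DirectSum.smul_apply, ← map_smul, hy a ha, map_zero]
      rfl
    have hcoe : DirectSum.coeLinearMap J (Φ y) = y :=
      (LinearEquiv.ofBijective (DirectSum.coeLinearMap J) hint).apply_symm_apply y
    rw [← hcoe, DirectSum.coeLinearMap_eq_dfinsuppSum]
    refine sum_mem fun α _ => ?_
    show ((Φ y α : J α) : E) ∈ good
    rw [← DirectSum.sum_support_decompose 𝓔 ((Φ y α : J α) : E)]
    exact sum_mem fun i _ => hcore α i _ (SetLike.coe_mem _) (hJ α i (SetLike.coe_mem _))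
      (smul_decompose_eq_zero p (hy' α) i)
  let A := Localization.AtPrime p.toIdeal
  let L := LocalizedModule S E
  let G : (I →₀ A) →ₗ[A] L := Finsupp.linearCombination A fun α => LocalizedModule.mk (tp P t p α) 1
  let res : (I →₀ A) →ₗ[A] (I →₀ ResidueField A) :=
    Finsupp.mapRange.linearMap (Algebra.linearMap A (ResidueField A))
  have hres : Function.Surjective res :=
    Finsupp.mapRange_surjective _ (map_zero _) IsLocalRing.residue_surjective
  have htp : ∀ α : I, ∀ a ∈ p.toIdeal, a • tp P t p α = 0 := fun α a ha => by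
    have h := α.2
    exact (hann _ a).2 (by rw [h]; exact ha)
  have hrange : LinearMap.range G = soc p.toIdeal E := by
    apply le_antisymm
    · rw [Finsupp.range_linearCombination, Submodule.span_le]
      rintro _ ⟨α, rfl⟩
      exact mk_mem_soc _ (htp α) 1
    · intro x hx
      obtain ⟨y, s, hy, rfl⟩ := exists_rep_of_mem_soc _ hx
      obtain ⟨v, hv, hvy⟩ := hspan y hy
      obtain ⟨c, hc⟩ := Finsupp.mem_span_range_iff_exists_finsupp.1 hvy
      have : LocalizedModule.mk y s = IsLocalization.mk' A 1 (⟨v, hv⟩ * s) • LocalizedModule.mkLinearMap S E (v • y) := by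
        rw [LocalizedModule.mkLinearMap_apply, ← Localization.mk_eq_mk', LocalizedModule.mk_smul_mk, one_smul, mul_one]
        exact (LocalizedModule.mk_cancel_common_left ⟨v, hv⟩ s y).symm
      rw [this, ← hc, map_finsuppSum]
      refine Submodule.smul_mem _ _ (sum_mem fun α _ => ?_)
      show LocalizedModule.mkLinearMap S E (c α • tp P t p α) ∈ LinearMap.range G
      rw [map_smul, ← algebraMap_smul A (c α), LocalizedModule.mkLinearMap_apply]
      exact Submodule.smul_mem _ _ ⟨Finsupp.single α 1, by simp [G]⟩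
  have hker : LinearMap.ker G = LinearMap.ker res := by
    apply le_antisymm
    · intro l hl
      obtain ⟨b, hb⟩ := IsLocalization.exist_integer_multiples_of_finite S fun α : l.support => l α
      choose c hc using hb
      rw [LinearMap.mem_ker] at hl ⊢
      have hsum : LocalizedModule.mkLinearMap S E (∑ α : l.support, c α • tp P t p α.1) = 0 := by
        rw [map_sum, ← smul_zero (b : R), ← hl, Finsupp.linearCombination_apply, Finsupp.sum, Finset.smul_sum,
          ← Finset.sum_coe_sort l.support]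
        refine Finset.sum_congr rfl fun α _ => ?_
        rw [map_smul, LocalizedModule.mkLinearMap_apply, ← algebraMap_smul A (c α), hc, smul_assoc]
      obtain ⟨w, hw⟩ := (IsLocalizedModule.eq_zero_iff S (LocalizedModule.mkLinearMap S E)).1 hsum
      have hall : ∀ α : l.support, c α ∈ p.toIdeal := by
        intro α
        let g : Λ →₀ R := ∑ β : l.support, Finsupp.single β.1.1 ((w : R) * c β)
        have hg : g.sum (fun β r => r • t β) = 0 := by
          rw [← Finsupp.sum_finset_sum_index (fun _ => by simp) (fun _ _ _ => add_smul _ _ _)]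
          rw [← hw, Submonoid.smul_def, Finset.smul_sum]
          refine Finset.sum_congr rfl fun β _ => ?_
          rw [Finsupp.sum_single_index (by simp), mul_smul]
          rfl
        have hzero : ∀ β, g β • t β = 0 := fun β => by
          by_contra hne
          have hmem : β ∈ g.support := Finsupp.mem_support_iff.2 fun h => hne (by rw [h, zero_smul])
          have hd := hind β
          rw [disjoint_iff] at hd
          apply hne
          rw [← Submodule.mem_bot R, ← hd]
          refine ⟨Submodule.smul_mem _ _ (htJ β), ?_⟩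
          rw [Finsupp.sum, ← Finset.add_sum_erase _ _ hmem, add_eq_zero_iff_eq_neg] at hg
          rw [hg]
          refine neg_mem (sum_mem fun γ hγ => ?_)
          exact Submodule.mem_iSup_of_mem γ (Submodule.mem_iSup_of_mem (Finset.ne_of_mem_erase hγ)
            (Submodule.smul_mem _ _ (htJ γ)))
        have h := hzero α.1.1
        have hgα : g α.1.1 = (w : R) * c α := by
          rw [Finsupp.finset_sum_apply, Finset.sum_eq_single α]
          · exact Finsupp.single_eq_same
          · intro β _ hne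
            exact Finsupp.single_eq_of_ne fun h => hne (Subtype.ext (Subtype.ext h)).symm
          · simp
        rw [hgα, hann, α.1.2] at h
        exact (hp.mem_or_mem h).resolve_left w.2
      ext α
      rw [Finsupp.mapRange.linearMap_apply, Finsupp.mapRange_apply, Finsupp.zero_apply]
      by_cases hα : α ∈ l.support
      · apply Ideal.Quotient.eq_zero_iff_mem.2
        have h : algebraMap R A (c ⟨α, hα⟩) ∈ maximalIdeal A :=
          (IsLocalization.AtPrime.to_map_mem_maximal_iff A p.toIdeal _).2 (hall _)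
        rw [hc, Algebra.smul_def] at h
        exact ((maximalIdeal.isMaximal A).isPrime.mem_or_mem h).resolve_left fun h' =>
          b.2 ((IsLocalization.AtPrime.to_map_mem_maximal_iff A p.toIdeal _).1 h')
      · rw [Finsupp.notMem_support_iff.1 hα, map_zero]
    · intro l hl
      rw [LinearMap.mem_ker, Finsupp.linearCombination_apply]
      refine Finset.sum_eq_zero fun α _ => ?_
      have h : l α ∈ maximalIdeal A := Ideal.Quotient.eq_zero_iff_mem.1 (DFunLike.congr_fun hl α)
      obtain ⟨r, s, hrs⟩ := IsLocalization.exists_mk'_eq S (l α)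
      rw [← hrs] at h ⊢
      show _ • LocalizedModule.mk (tp P t p α) 1 = 0
      rw [← Localization.mk_eq_mk', LocalizedModule.mk_smul_mk, htp α r ((IsLocalization.AtPrime.mk'_mem_maximal_iff A p.toIdeal r s).1 h),
        LocalizedModule.zero_mk]
  have e1 := ((LinearMap.quotKerEquivRange G).symm.trans
    ((Submodule.quotEquivOfEq _ _ hker).trans (res.quotKerEquivOfSurjective hres))).length_eq
  rw [hrange] at e1
  rw [e1, length_finsupp_residueField]

end Groth.Agent.GrBassZero
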