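import Mathlib.Algebra.Module.Torsion.Basic
import Mathlib.RingTheory.Localization.Module
import Mathlib.RingTheory.Localization.AtPrime.Basic
import Mathlib.RingTheory.Noetherian.Basic
import Mathlib.RingTheory.Length
import Mathlib.Algebra.Category.ModuleCat.Ext.HasExt
import Groth.Prelude.Def_GrLC2

/-! The socle of a localised module and the zeroth Bass number. -/

set_option autoImplicit false
universe u

namespace Groth.Agent.GrBassZero

open IsLocalRing

variable {R : Type u} [CommRing R] (p : Ideal R) [p.IsPrime]
variable {E : Type u} [AddCommGroup E] [Module R E]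

/-- socle of the localisation -/
noncomputable def soc (E : Type u) [AddCommGroup E] [Module R E] :
    Submodule (Localization.AtPrime p) (LocalizedModule p.primeCompl E) :=
  Submodule.torsionBySet _ _ (maximalIdeal (Localization.AtPrime p) : Set (Localization.AtPrime p))

theorem mem_soc_iff (x : LocalizedModule p.primeCompl E) : x ∈ soc p E ↔ ∀ a ∈ p, a • x = 0 := by
  rw [soc, Submodule.mem_torsionBySet_iff]
  constructor
  · intro h a ha
    have := h ⟨algebraMap R _ a, (IsLocalization.AtPrime.to_map_mem_maximal_iff _ p a).2 ha⟩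
    rwa [algebraMap_smul] at this
  · rintro h ⟨a, ha⟩
    obtain ⟨r, s, rfl⟩ := IsLocalization.exists_mk'_eq p.primeCompl a
    have hr : r ∈ p := (IsLocalization.AtPrime.mk'_mem_maximal_iff _ p r s).1 ha
    show IsLocalization.mk' _ r s • x = 0
    rw [IsLocalization.mk'_eq_mul_mk'_one, mul_comm, mul_smul, algebraMap_smul, h r hr, smul_zero]

theorem mk_mem_soc {y : E} (hy : ∀ a ∈ p, a • y = 0) (s : p.primeCompl) :
    LocalizedModule.mk y s ∈ soc p E := by
  refine (mem_soc_iff p _).2 fun a ha => ?_
  rw [LocalizedModule.smul'_mk, hy a ha, LocalizedModule.zero_mk]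

theorem exists_rep_of_mem_soc [IsNoetherianRing R] {x : LocalizedModule p.primeCompl E} (hx : x ∈ soc p E) :
    ∃ (y : E) (s : p.primeCompl), (∀ a ∈ p, a • y = 0) ∧ x = LocalizedModule.mk y s := by
  classical
  induction x using LocalizedModule.induction_on with
  | h m s =>
    obtain ⟨T, hT⟩ := IsNoetherian.noetherian p
    have h : ∀ a : T, ∃ v : p.primeCompl, v • ((a : R) • m) = 0 := fun a => by
      have h0 := (mem_soc_iff p _).1 hx a (hT ▸ Submodule.subset_span a.2)
      rw [LocalizedModule.smul'_mk, ← LocalizedModule.zero_mk s, LocalizedModule.mk_eq] at h0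
      obtain ⟨v, hv⟩ := h0
      refine ⟨v * s, ?_⟩
      rw [mul_smul]
      simpa using hv
    choose v hv using h
    let w := ∏ a : T, v a
    refine ⟨(w : R) • m, w * s, ?_, (LocalizedModule.mk_cancel_common_left w s m).symm⟩
    intro a ha
    rw [← hT] at ha
    induction ha using Submodule.span_induction with
    | mem a ha =>
      obtain ⟨c, hc⟩ : v ⟨a, ha⟩ ∣ w := Finset.dvd_prod_of_mem _ (Finset.mem_univ _)
      rw [hc, Submonoid.coe_mul, mul_comm (v ⟨a, ha⟩ : R), mul_smul, smul_comm a, smul_comm a]
      have h1 : (v ⟨a, ha⟩ : R) • a • m = 0 := hv ⟨a, ha⟩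
      rw [h1, smul_zero]
    | zero => rw [zero_smul]
    | add a b _ _ iha ihb => rw [add_smul, iha, ihb, add_zero]
    | smul r a _ iha => rw [smul_assoc, iha, smul_zero]

theorem bassNum_zero_eq_length_soc (M : Type u) [AddCommGroup M] [Module R M] :
    GrLC.bassNum p M 0 = Module.length (Localization.AtPrime p) (soc p M) := by
  rw [GrLC.bassNum, GrLC.bassNumLocal]
  rw [((CategoryTheory.Abelian.Ext.linearEquiv₀ (R := Localization.AtPrime p)).trans ModuleCat.homLinearEquiv).length_eq]
  let A := Localization.AtPrime p
  let ev : (ResidueField A →ₗ[A] LocalizedModule p.primeCompl M) →ₗ[A] LocalizedModule p.primeCompl M :=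
    LinearMap.applyₗ (1 : ResidueField A)
  have hev : Function.Injective ev := fun φ ψ h => LinearMap.ext fun z => by
    obtain ⟨z, rfl⟩ := IsLocalRing.residue_surjective z
    have h1 : residue A z = z • (1 : ResidueField A) := by
      rw [Algebra.smul_def, mul_one]; rfl
    rw [h1, map_smul, map_smul]
    exact congrArg (z • ·) h
  have hrange : LinearMap.range ev = soc p M := by
    apply le_antisymm
    · rintro _ ⟨φ, rfl⟩
      rw [soc, Submodule.mem_torsionBySet_iff]
      rintro ⟨a, ha⟩
      show a • φ 1 = 0
      rw [← map_smul, Algebra.smul_def, mul_one]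
      have : residue A a = 0 := Ideal.Quotient.eq_zero_iff_mem.2 ha
      exact (congrArg φ this).trans (map_zero φ)
    · intro x hx
      have hker : maximalIdeal A ≤ LinearMap.ker (LinearMap.toSpanSingleton A _ x) := fun a ha => by
        rw [soc, Submodule.mem_torsionBySet_iff] at hx
        exact hx ⟨a, ha⟩
      exact ⟨Submodule.liftQ (maximalIdeal A) (LinearMap.toSpanSingleton A _ x) hker, one_smul A x⟩
  rw [(LinearEquiv.ofInjective ev hev).length_eq, hrange]

theorem length_finsupp_residueField (A : Type u) [CommRing A] [IsLocalRing A] (I : Type u) :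
    Module.length A (I →₀ ResidueField A) = ENat.card I := by
  have h : Module.length A (ResidueField A) = 1 :=
    Module.length_eq_one_iff.2 (isSimpleModule_iff_isCoatom.2 (Ideal.isMaximal_def.1 (maximalIdeal.isMaximal A)))
  rw [Module.length_finsupp, h, mul_one]

end Groth.Agent.GrBassZero
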